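import Groth.Agent.Lib.FlatH4.FlatAt
import Mathlib.RingTheory.TensorProduct.Maps
import Mathlib.RingTheory.IsTensorProduct
import Mathlib.RingTheory.SimpleModule.Basic
import Mathlib.RingTheory.Artinian.Module
import Mathlib.RingTheory.Ideal.MinimalPrime.Localization
import Mathlib.RingTheory.Ideal.MinimalPrime.Noetherian
import Mathlib.RingTheory.Nilpotent.Lemmas
import Mathlib.RingTheory.HopkinsLevitzki
import Mathlib.RingTheory.LocalProperties.Reduced

/-!
# Torsion kernels of a base change `C ⊗[R] B`
-/

set_option autoImplicit false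
set_option backward.isDefEq.respectTransparency.types false

set_option linter.style.haveILetI false

universe u

open TensorProduct

namespace Groth.Agent.FlatDvr5

section

variable (R B : Type u) [CommRing R] [CommRing B] [Algebra R B]
variable (C C' : Type u) [CommRing C] [CommRing C'] [Algebra R C] [Algebra R C'] [Algebra C C']
  [IsScalarTower R C C']

/-- The map `C ⊗ B → C' ⊗ B`. -/
noncomputable def bcMap : C ⊗[R] B →ₐ[C] C' ⊗[R] B :=
  Algebra.TensorProduct.map (Algebra.ofId C C') (AlgHom.id R B)

theorem bcMap_tmul (c : C) (b : B) : bcMap R B C C' (c ⊗ₜ b) = algebraMap C C' c ⊗ₜ b := rfl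

theorem bcMap_surjective (h : Function.Surjective (algebraMap C C')) :
    Function.Surjective (bcMap R B C C') := by
  intro x
  induction x using TensorProduct.induction_on with
  | zero => exact ⟨0, map_zero _⟩
  | add a b ha hb =>
    obtain ⟨a, rfl⟩ := ha
    obtain ⟨b, rfl⟩ := hb
    exact ⟨a + b, map_add _ _ _⟩
  | tmul c b =>
    obtain ⟨c, rfl⟩ := h c
    exact ⟨c ⊗ₜ b, rfl⟩

/-- `N ⊗_C (C ⊗_R B) = B ⊗_R N`, seen on the base change. -/
noncomputable def assocIso (N : Type u) [AddCommGroup N] [Module C N] [Module R N] [IsScalarTower R C N] :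
    (C ⊗[R] B) ⊗[C] N ≃ₗ[C] N ⊗[R] B :=
  TensorProduct.comm C _ N ≪≫ₗ AlgebraTensorModule.cancelBaseChange R C C N B

theorem assocIso_tmul {N : Type u} [AddCommGroup N] [Module C N] [Module R N] [IsScalarTower R C N]
    (c : C) (b : B) (n : N) : assocIso R B C N ((c ⊗ₜ b) ⊗ₜ n) = (c • n) ⊗ₜ b := by
  simp [assocIso]

theorem assocIso_natural {N N' : Type u} [AddCommGroup N] [Module C N] [Module R N] [IsScalarTower R C N]
    [AddCommGroup N'] [Module C N'] [Module R N'] [IsScalarTower R C N'] (f : N →ₗ[C] N')
    (x : (C ⊗[R] B) ⊗[C] N) :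
    assocIso R B C N' (f.lTensor (C ⊗[R] B) x) = (f.restrictScalars R).rTensor B (assocIso R B C N x) := by
  induction x using TensorProduct.induction_on with
  | zero => simp
  | add a b ha hb => simp only [map_add, ha, hb]
  | tmul t n =>
    induction t using TensorProduct.induction_on with
    | zero => simp
    | add a b ha hb => simp only [add_tmul, map_add, ha, hb]
    | tmul c b => simp [assocIso_tmul]

/-- Flatness at a prime is stable under base change of the base. -/
theorem flatAt_baseChange (P' : Ideal (C' ⊗[R] B)) [P'.IsPrime]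
    (h : Module.Flat C (LocalizedModule (P'.comap (bcMap R B C C')).primeCompl (C ⊗[R] B))) :
    Module.Flat C' (LocalizedModule P'.primeCompl (C' ⊗[R] B)) := by
  haveI : Module.Flat C (LocalizedModule (P'.comap (bcMap R B C C').toRingHom).primeCompl (C ⊗[R] B)) := h
  refine FlatH4.flat_localized_baseChange (R := C) (S := C ⊗[R] B) (M := C ⊗[R] B) C'
    (bcMap R B C C').toRingHom P' (AlgebraTensorModule.cancelBaseChange R C C' C' B) ?_
  intro s m
  induction s using TensorProduct.induction_on with
  | zero => simp
  | add a b ha hb => simp only [add_smul, tmul_add, map_add, ha, hb]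
  | tmul c b =>
    induction m using TensorProduct.induction_on with
    | zero => simp
    | add a b ha hb => simp only [smul_add, tmul_add, map_add, ha, hb]
    | tmul c' b' =>
      rw [smul_eq_mul, Algebra.TensorProduct.tmul_mul_tmul]
      simp [bcMap_tmul, Algebra.smul_def]

end

/-- Flatness at a prime of `T' ⊗[T] T`. -/
theorem flat_localized_rid {A' T T' : Type u} [CommRing A'] [CommRing T] [CommRing T'] [Algebra T T']
    [Algebra A' T'] (Q : Ideal T') [Q.IsPrime] (h : Module.Flat A' (LocalizedModule Q.primeCompl T')) :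
    Module.Flat A' (LocalizedModule Q.primeCompl (T' ⊗[T] T)) := by
  let g : T' ⊗[T] T →ₗ[T'] LocalizedModule Q.primeCompl T' :=
    LocalizedModule.mkLinearMap Q.primeCompl T' ∘ₗ (AlgebraTensorModule.rid T T' T').toLinearMap
  haveI : IsLocalizedModule Q.primeCompl g := IsLocalizedModule.of_linearEquiv_right _ _ _
  haveI := h
  exact Module.Flat.of_linearEquiv ((IsLocalizedModule.iso Q.primeCompl g).restrictScalars A')

section Ker

variable {R B C : Type u} [CommRing R] [CommRing B] [Algebra R B] [CommRing C] [Algebra R C]

/-- Kernel elements of maps between modules killed by `K` are killed outside `P` when the base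
change to `C ⧸ K` is flat at the prime over `P`. -/
theorem exists_smul_eq_zero_of_torsion (K : Ideal C) (P' : Ideal ((C ⧸ K) ⊗[R] B)) [P'.IsPrime]
    (P : Ideal (C ⊗[R] B)) (hP : P'.comap (bcMap R B C (C ⧸ K)) = P)
    (h : Module.Flat (C ⧸ K) (LocalizedModule P'.primeCompl ((C ⧸ K) ⊗[R] B)))
    {N N' : Type u} [AddCommGroup N] [Module C N] [AddCommGroup N'] [Module C N']
    (hN : Module.IsTorsionBySet C N (K : Set C)) (hN' : Module.IsTorsionBySet C N' (K : Set C))
    (f : N →ₗ[C] N') (hf : Function.Injective f) (x : (C ⊗[R] B) ⊗[C] N)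
    (hx : f.lTensor (C ⊗[R] B) x = 0) : ∃ t : C ⊗[R] B, t ∉ P ∧ t • x = 0 := by
  letI := hN.module
  letI := hN'.module
  haveI : IsScalarTower C (C ⧸ K) N := hN.isScalarTower
  haveI : IsScalarTower C (C ⧸ K) N' := hN'.isScalarTower
  letI : Module R N := Module.compHom N (algebraMap R C)
  letI : Module R N' := Module.compHom N' (algebraMap R C)
  haveI : IsScalarTower R C N := IsScalarTower.of_algebraMap_smul fun _ _ => rfl
  haveI : IsScalarTower R C N' := IsScalarTower.of_algebraMap_smul fun _ _ => rfl
  haveI : IsScalarTower R (C ⧸ K) N := IsScalarTower.of_algebraMap_smul fun r n => by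
    rw [IsScalarTower.algebraMap_apply R C (C ⧸ K), algebraMap_smul, algebraMap_smul]
  haveI : IsScalarTower R (C ⧸ K) N' := IsScalarTower.of_algebraMap_smul fun r n => by
    rw [IsScalarTower.algebraMap_apply R C (C ⧸ K), algebraMap_smul, algebraMap_smul]
  let f' : N →ₗ[C ⧸ K] N' := f.extendScalarsOfSurjective Ideal.Quotient.mk_surjective
  let θ := assocIso R B C N
  let θ' := assocIso R B (C ⧸ K) N
  let y := θ'.symm (θ x)
  have hy : f'.lTensor ((C ⧸ K) ⊗[R] B) y = 0 := by
    apply (assocIso R B (C ⧸ K) N').injective
    rw [map_zero, assocIso_natural]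
    show (f'.restrictScalars R).rTensor B (θ' (θ'.symm (θ x))) = 0
    rw [θ'.apply_symm_apply]
    have := assocIso_natural R B C f x
    rw [hx, map_zero] at this
    exact this.symm
  haveI := h
  obtain ⟨t', ht', h0⟩ := FlatH4.exists_smul_eq_zero_of_flat_localized P' f' hf y hy
  obtain ⟨t, rfl⟩ := bcMap_surjective R B C (C ⧸ K) Ideal.Quotient.mk_surjective t'
  refine ⟨t, fun htP => ht' (by rw [← hP] at htP; exact htP), ?_⟩
  have key : ∀ (t : C ⊗[R] B) (z : (C ⊗[R] B) ⊗[C] N),
      θ'.symm (θ (t • z)) = bcMap R B C (C ⧸ K) t • θ'.symm (θ z) := by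
    intro t z
    induction z using TensorProduct.induction_on with
    | zero => simp
    | add a b ha hb => simp only [smul_add, map_add, ha, hb]
    | tmul s n =>
      rw [TensorProduct.smul_tmul']
      induction s using TensorProduct.induction_on with
      | zero => simp
      | add a b ha hb => simp only [smul_add, add_tmul, map_add, ha, hb]
      | tmul c b =>
        induction t using TensorProduct.induction_on with
        | zero => simp
        | add a b ha hb => simp only [add_smul, add_tmul, map_add, ha, hb]
        | tmul c₀ b₀ =>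
          apply θ'.injective
          rw [θ'.apply_symm_apply, smul_eq_mul, Algebra.TensorProduct.tmul_mul_tmul, assocIso_tmul, assocIso_tmul]
          have e : θ'.symm ((c • n) ⊗ₜ[R] b) = ((1 : C ⧸ K) ⊗ₜ[R] b) ⊗ₜ[C ⧸ K] (c • n) := by
            rw [θ'.symm_apply_eq, assocIso_tmul, one_smul]
          rw [e, bcMap_tmul, TensorProduct.smul_tmul', smul_eq_mul, Algebra.TensorProduct.tmul_mul_tmul,
            mul_one, assocIso_tmul, algebraMap_smul, mul_smul]
  apply θ.injective
  apply θ'.symm.injective
  rw [key, map_zero, map_zero]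
  exact h0

end Ker

/-- The total fraction ring of a reduced Noetherian ring is semisimple. -/
theorem isSemisimpleRing_localization (A : Type u) [CommRing A] [IsNoetherianRing A] [IsReduced A] :
    IsSemisimpleRing (Localization (nonZeroDivisors A)) := by
  let K := Localization (nonZeroDivisors A)
  haveI : IsNoetherianRing K := IsLocalization.isNoetherianRing (nonZeroDivisors A) K inferInstance
  haveI : IsReduced K := inferInstance
  have key : ∀ Q : Ideal K, Q.IsPrime → Q.comap (algebraMap A K) ∈ minimalPrimes A := by
    intro Q hQ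
    have hd : ∀ a ∈ Q.comap (algebraMap A K), a ∉ nonZeroDivisors A := fun a ha hs =>
      hQ.ne_top (Ideal.eq_top_of_isUnit_mem _ ha (IsLocalization.map_units K ⟨a, hs⟩))
    have hfin := minimalPrimes.finite_of_isNoetherianRing A
    have hsub : ((Q.comap (algebraMap A K) : Ideal A) : Set A) ⊆ ⋃ p ∈ minimalPrimes A, (p : Set A) := by
      intro a ha
      by_contra hn
      apply hd a ha
      rw [mem_nonZeroDivisors_iff_right]
      intro x hx
      have hnil : x ∈ nilradical A := by
        rw [nilradical, Ideal.zero_eq_bot, ← Ideal.sInf_minimalPrimes, Ideal.mem_sInf]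
        exact fun {p} hp => (hp.1.1.mem_or_mem (show x * a ∈ p by rw [hx]; exact zero_mem _)).resolve_right
          fun h => hn (Set.mem_biUnion hp h)
      rwa [nilradical_eq_zero] at hnil
    obtain ⟨p, hp, hle⟩ := (Ideal.subset_union_prime_finite hfin ⊥ ⊥ (fun p hp _ _ => hp.1.1)).1 hsub
    exact (le_antisymm hle (hp.2 ⟨Ideal.IsPrime.comap _, bot_le⟩ hle)) ▸ hp
  haveI : Ring.KrullDimLE 0 K := Ring.krullDimLE_zero_iff.2 fun P hP => by
    obtain ⟨M, hM, hPM⟩ := P.exists_le_maximal hP.ne_top
    have h1 := key P hP
    have h2 := key M hM.isPrime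
    have h3 : P.comap (algebraMap A K) = M.comap (algebraMap A K) :=
      le_antisymm (Ideal.comap_mono hPM) (h2.2 h1.1 (Ideal.comap_mono hPM))
    rwa [(IsLocalization.orderEmbedding (nonZeroDivisors A) K).injective (a₁ := P) (a₂ := M) h3]
  haveI : IsArtinianRing K := isArtinianRing_iff_krullDimLE_zero.2 inferInstance
  exact IsArtinianRing.isSemisimpleRing_of_isReduced K

/-- Over a reduced Noetherian base, kernels after tensoring are killed by non-zero-divisors. -/
theorem exists_smul_eq_zero_of_reduced {R A B C : Type u} [CommRing R] [CommRing A] [CommRing B] [CommRing C]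
    [Algebra R A] [Algebra R B] [Algebra R C] [Algebra A C] [IsScalarTower R A C]
    [IsNoetherianRing A] [IsReduced A] {N N' : Type u} [AddCommGroup N] [Module C N] [AddCommGroup N']
    [Module C N'] (f : N →ₗ[C] N') (hf : Function.Injective f) (x : (C ⊗[R] B) ⊗[C] N)
    (hx : f.lTensor (C ⊗[R] B) x = 0) :
    ∃ s ∈ nonZeroDivisors A, algebraMap A C s • x = 0 := by
  letI : Module R N := Module.compHom N (algebraMap R C)
  letI : Module R N' := Module.compHom N' (algebraMap R C)
  haveI : IsScalarTower R C N := IsScalarTower.of_algebraMap_smul fun _ _ => rfl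
  haveI : IsScalarTower R C N' := IsScalarTower.of_algebraMap_smul fun _ _ => rfl
  letI : Module A N := Module.compHom N (algebraMap A C)
  letI : Module A N' := Module.compHom N' (algebraMap A C)
  haveI : IsScalarTower A C N := IsScalarTower.of_algebraMap_smul fun _ _ => rfl
  haveI : IsScalarTower A C N' := IsScalarTower.of_algebraMap_smul fun _ _ => rfl
  haveI : IsScalarTower R A N := IsScalarTower.of_algebraMap_smul fun r n => by
    show algebraMap A C (algebraMap R A r) • n = r • n
    rw [← IsScalarTower.algebraMap_apply, algebraMap_smul]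
  haveI : IsScalarTower R A N' := IsScalarTower.of_algebraMap_smul fun r n => by
    show algebraMap A C (algebraMap R A r) • n = r • n
    rw [← IsScalarTower.algebraMap_apply, algebraMap_smul]
  let S₀ := nonZeroDivisors A
  let K := Localization S₀
  haveI : IsSemisimpleRing K := isSemisimpleRing_localization A
  let fA : N →ₗ[A] N' := f.restrictScalars A
  let g := LocalizedModule.mkLinearMap S₀ N
  let g' := LocalizedModule.mkLinearMap S₀ N'
  let F : LocalizedModule S₀ N →ₗ[K] LocalizedModule S₀ N' := LocalizedModule.map S₀ fA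
  have hF : Function.Injective F := LocalizedModule.map_injective S₀ fA hf
  obtain ⟨r, hr⟩ := IsSemisimpleModule.extension_property F hF LinearMap.id
  let G := AlgebraTensorModule.rTensor R B g
  let G' := AlgebraTensorModule.rTensor R B g'
  let θ := assocIso R B C N
  have hnat : ∀ z, (F.restrictScalars R).rTensor B (G z) = G' ((f.restrictScalars R).rTensor B z) := by
    intro z
    induction z using TensorProduct.induction_on with
    | zero => simp
    | add a b ha hb => simp only [map_add, ha, hb]
    | tmul n b =>
      have e : F (g n) = g' (f n) := IsLocalizedModule.map_apply S₀ g g' fA n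
      simp [G, G', e]
  have h0 : (F.restrictScalars R).rTensor B (G (θ x)) = 0 := by
    rw [hnat, ← assocIso_natural, hx, map_zero, map_zero]
  have h1 : G (θ x) = 0 := by
    have h2 := congrArg ((r.restrictScalars R).rTensor B) h0
    rw [map_zero, ← LinearMap.rTensor_comp_apply,
      show (r.restrictScalars R) ∘ₗ (F.restrictScalars R) = LinearMap.id from
        LinearMap.ext fun z => LinearMap.congr_fun hr z, LinearMap.rTensor_id, LinearMap.id_apply] at h2
    exact h2
  obtain ⟨s, hs⟩ := (IsLocalizedModule.eq_zero_iff S₀ G).1 h1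
  refine ⟨s, s.2, θ.injective ?_⟩
  rw [map_smul, map_zero, algebraMap_smul]
  exact hs

end Groth.Agent.FlatDvr5
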