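import Groth.Agent.Lib.FlatDvr5.Basic
import Groth.Agent.Lib.FlatDesc5.Artin
import Groth.Agent.Lib.HLV27.Chevalley
import Groth.Agent.Lib.KrullAkizuki.DVR
import Mathlib.RingTheory.DiscreteValuationRing.Basic
import Mathlib.RingTheory.FiniteType

/-!
# The valuative criterion of flatness over a complete local ring
-/

set_option autoImplicit false
set_option backward.isDefEq.respectTransparency.types false
set_option linter.style.haveILetI false
set_option maxHeartbeats 800000

universe u

open TensorProduct IsLocalRing

namespace Groth.Agent.FlatDvr5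

/-- A quotient of a Noetherian local ring by an ideal containing a power of the maximal ideal. -/
theorem isArtinianRing_quotient {C : Type u} [CommRing C] [IsLocalRing C] [IsNoetherianRing C]
    (K : Ideal C) (n : ℕ) (h : maximalIdeal C ^ n ≤ K) : IsArtinianRing (C ⧸ K) := by
  haveI : Ring.KrullDimLE 0 (C ⧸ K) := Ring.krullDimLE_zero_iff.2 fun P hP => by
    haveI := hP
    have h1 : maximalIdeal C ^ n ≤ P.comap (Ideal.Quotient.mk K) := fun x hx => by
      rw [Ideal.mem_comap, Ideal.Quotient.eq_zero_iff_mem.2 (h hx)]; exact zero_mem _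
    have h2 : P.comap (Ideal.Quotient.mk K) = maximalIdeal C :=
      le_antisymm (le_maximalIdeal (Ideal.IsPrime.comap _).ne_top) (Ideal.IsPrime.le_of_pow_le h1)
    haveI : (P.comap (Ideal.Quotient.mk K)).IsMaximal := by rw [h2]; infer_instance
    rw [← Ideal.map_comap_of_surjective _ Ideal.Quotient.mk_surjective P]
    exact (Ideal.map_eq_top_or_isMaximal_of_surjective _ Ideal.Quotient.mk_surjective inferInstance).resolve_left
      (by rw [Ideal.map_comap_of_surjective _ Ideal.Quotient.mk_surjective P]; exact hP.ne_top)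
  exact isArtinianRing_iff_krullDimLE_zero.2 inferInstance

/-- A DVR over a Noetherian local domain in which the domain injects, or the domain is a field. -/
theorem exists_dvr_over (C : Type u) [CommRing C] [IsLocalRing C] [IsNoetherianRing C] (p : Ideal C)
    [p.IsPrime] (hp : p ≠ maximalIdeal C) :
    ∃ (V : Type u) (_ : CommRing V) (_ : IsDomain V) (_ : IsDiscreteValuationRing V) (φ : C →+* V),
      RingHom.ker φ = p ∧ (maximalIdeal V).comap φ = maximalIdeal C := by
  let D := C ⧸ p
  haveI : IsLocalRing D := IsLocalRing.of_surjective' (Ideal.Quotient.mk p) Ideal.Quotient.mk_surjective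
  have hD : ¬ IsField D := fun h => hp (eq_maximalIdeal (Ideal.Quotient.maximal_of_isField p h))
  let L := FractionRing D
  obtain ⟨V, hV, hmem, hlt⟩ := KrullAkizuki.exists_dvr_dominating D hD L L
  let φ : D →+* V := (algebraMap D L).codRestrict V hmem
  refine ⟨V, inferInstance, inferInstance, hV, φ.comp (Ideal.Quotient.mk p), ?_, ?_⟩
  · ext x
    rw [RingHom.mem_ker, RingHom.comp_apply, ← Ideal.Quotient.eq_zero_iff_mem]
    refine ⟨fun h => ?_, fun h => by rw [h, map_zero]⟩
    apply IsFractionRing.injective D L
    rw [map_zero]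
    exact congrArg Subtype.val h
  · refine le_antisymm (le_maximalIdeal (Ideal.IsPrime.comap _).ne_top) fun x hx => ?_
    have hxD : Ideal.Quotient.mk p x ∈ maximalIdeal D := fun hu => by
      obtain ⟨z, hz⟩ := hu.exists_right_inv
      obtain ⟨z, rfl⟩ := Ideal.Quotient.mk_surjective z
      rw [← map_mul, ← map_one (Ideal.Quotient.mk p), Ideal.Quotient.eq] at hz
      refine (maximalIdeal.isMaximal C).ne_top ((Ideal.eq_top_iff_one _).2 ?_)
      rw [show (1 : C) = x * z - (x * z - 1) by ring]
      exact sub_mem (Ideal.mul_mem_right _ _ hx) (le_maximalIdeal (Ideal.IsPrime.ne_top inferInstance) hz)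
    rw [Ideal.mem_comap, RingHom.comp_apply, ValuationSubring.valuation_lt_one_iff]
    exact hlt _ hxD

variable {R B : Type u} [CommRing R] [CommRing B] [Algebra R B] [Algebra.FiniteType R B]

/-- The valuative criterion at a prime over a complete reduced local ring. -/
theorem flatAt_of_dvr_of_complete {C : Type u} [CommRing C] [Algebra R C] [IsLocalRing C]
    [IsNoetherianRing C] [IsAdicComplete (maximalIdeal C) C] [IsReduced C]
    (P : Ideal (C ⊗[R] B)) [P.IsPrime] (hP : P.comap (algebraMap C (C ⊗[R] B)) = maximalIdeal C)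
    (h : ∀ (V : Type u) [CommRing V] [IsDomain V] [IsDiscreteValuationRing V] [Algebra R V] [Algebra C V]
      [IsScalarTower R C V], (maximalIdeal V).comap (algebraMap C V) = maximalIdeal C →
      ∀ (Q : Ideal (V ⊗[R] B)) [Q.IsPrime], Q.comap (bcMap R B C V) = P →
        Q.comap (algebraMap V (V ⊗[R] B)) = maximalIdeal V →
        Module.Flat V (LocalizedModule Q.primeCompl (V ⊗[R] B))) :
    Module.Flat C (LocalizedModule P.primeCompl (C ⊗[R] B)) := by
  classical
  haveI : Algebra.FiniteType C (C ⊗[R] B) := Algebra.FiniteType.baseChange C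
  haveI : IsNoetherianRing (C ⊗[R] B) := Algebra.FiniteType.isNoetherianRing C _
  by_cases hC : IsField C
  · letI := hC.toField
    infer_instance
  let ι := {p : Ideal C // p ∈ minimalPrimes C}
  haveI : ∀ i : ι, i.1.IsPrime := fun i => i.2.1.1
  have hne : ∀ i : ι, i.1 ≠ maximalIdeal C := by
    intro i hi
    apply hC
    rw [isField_iff_maximalIdeal_eq]
    have h0 : maximalIdeal C ≤ nilradical C := by
      rw [nilradical, Ideal.zero_eq_bot, ← Ideal.sInf_minimalPrimes]
      exact le_sInf fun p hp => by
        have := hp.1.1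
        have hle : p ≤ i.1 := by rw [hi]; exact le_maximalIdeal this.ne_top
        exact hi ▸ i.2.2 hp.1 hle
    rw [nilradical_eq_zero] at h0
    exact le_bot_iff.1 h0
  choose V iR iD iV φ hker hdom using fun i : ι => exists_dvr_over C i.1 (hne i)
  letI : ∀ i, Algebra C (V i) := fun i => (φ i).toAlgebra
  letI : ∀ i, Algebra R (V i) := fun i => ((φ i).comp (algebraMap R C)).toAlgebra
  haveI : ∀ i, IsScalarTower R C (V i) := fun i => IsScalarTower.of_algebraMap_eq fun _ => rfl
  let K : ℕ → Ideal C := fun n => ⨅ i : ι, (maximalIdeal (V i) ^ (n + 1)).comap (φ i)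
  have hK1 : ∀ n, maximalIdeal C ^ (n + 1) ≤ K n := fun n => le_iInf fun i => by
    rw [← Ideal.map_le_iff_le_comap, Ideal.map_pow]
    exact Ideal.pow_right_mono (Ideal.map_le_iff_le_comap.2 (hdom i).ge) _
  have hKanti : Antitone K := fun a b hab => iInf_mono fun i =>
    Ideal.comap_mono (Ideal.pow_le_pow_right (by omega))
  have hK0 : ⨅ n, K n = ⊥ := by
    rw [eq_bot_iff]
    intro x hx
    have hx' : ∀ i : ι, x ∈ i.1 := fun i => by
      rw [← hker i, RingHom.mem_ker, ← Ideal.mem_bot, ← Ideal.iInf_pow_eq_bot_of_isLocalRing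
        (maximalIdeal (V i)) (maximalIdeal.isMaximal _).ne_top, Submodule.mem_iInf]
      intro n
      exact Ideal.pow_le_pow_right (Nat.le_succ n) ((Submodule.mem_iInf _).1 ((Submodule.mem_iInf _).1 hx n) i)
    have : x ∈ nilradical C := by
      rw [nilradical, Ideal.zero_eq_bot, ← Ideal.sInf_minimalPrimes, Ideal.mem_sInf]
      exact fun {p} hp => hx' ⟨p, hp⟩
    rwa [nilradical_eq_zero] at this
  -- flatness over each Artinian quotient
  have hker' : ∀ (n : ℕ) {N N' : Type u} [AddCommGroup N] [Module C N] [AddCommGroup N'] [Module C N'],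
      Module.IsTorsionBySet C N (K n : Set C) → Module.IsTorsionBySet C N' (K n : Set C) →
      ∀ f : N →ₗ[C] N', Function.Injective f → ∀ x : (C ⊗[R] B) ⊗[C] N,
        f.lTensor (C ⊗[R] B) x = 0 → ∃ t ∈ P.primeCompl, t • x = 0 := by
    intro n N N' _ _ _ _ hN hN' f hf x hx
    let A := C ⧸ K n
    have hKm : K n ≤ maximalIdeal C := by
      obtain ⟨m⟩ : Nonempty ι := by
        obtain ⟨p, hp, -⟩ := Ideal.exists_minimalPrimes_le (bot_le : ⊥ ≤ maximalIdeal C)
        exact ⟨⟨p, hp⟩⟩
      refine (iInf_le _ m).trans ?_
      rw [← hdom m]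
      exact Ideal.comap_mono (Ideal.pow_le_self n.succ_ne_zero)
    haveI : IsArtinianRing A := isArtinianRing_quotient (K n) (n + 1) (hK1 n)
    haveI : Nontrivial A := Ideal.Quotient.nontrivial_iff.2 (ne_top_of_le_ne_top (maximalIdeal.isMaximal C).ne_top hKm)
    haveI : IsLocalRing A := IsLocalRing.of_surjective' (Ideal.Quotient.mk _) Ideal.Quotient.mk_surjective
    let T := A ⊗[R] B
    let ψ : C ⊗[R] B →ₐ[C] T := bcMap R B C A
    obtain ⟨P', hP', hPψ⟩ : ∃ P' : Ideal T, P'.IsPrime ∧ P'.comap ψ = P := by
      have hsurj : Function.Surjective ψ := bcMap_surjective R B C A Ideal.Quotient.mk_surjective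
      have hkerψ : RingHom.ker ψ.toRingHom ≤ P := by
        have hk : RingHom.ker ψ.toRingHom = (K n).map (algebraMap C (C ⊗[R] B)) := by
          have := Algebra.TensorProduct.rTensor_ker (A := C) (B := A) (C := B) (R := R)
            ((Ideal.Quotient.mkₐ R (K n))) Ideal.Quotient.mk_surjective
          rw [show RingHom.ker (Ideal.Quotient.mkₐ R (K n)) = K n from Ideal.Quotient.mkₐ_ker R (K n)] at this
          exact this
        rw [hk, Ideal.map_le_iff_le_comap, hP]
        exact hKm
      refine ⟨P.map ψ.toRingHom, Ideal.map_isPrime_of_surjective hsurj hkerψ, ?_⟩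
      show (P.map ψ.toRingHom).comap ψ.toRingHom = P
      exact (Ideal.comap_map_of_surjective' ψ.toRingHom hsurj P).trans (sup_eq_left.2 hkerψ)
    haveI := hP'
    refine exists_smul_eq_zero_of_torsion (K n) P' P hPψ ?_ hN hN' f hf x hx
    haveI : IsNoetherianRing T := by
      haveI : Algebra.FiniteType A T := Algebra.FiniteType.baseChange A
      exact Algebra.FiniteType.isNoetherianRing A T
    let A' : ι → Type u := fun i => V i ⧸ maximalIdeal (V i) ^ (n + 1)
    haveI : ∀ i, Nontrivial (A' i) := fun i => Ideal.Quotient.nontrivial_iff.2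
      (ne_top_of_le_ne_top (maximalIdeal.isMaximal (V i)).ne_top (Ideal.pow_le_self n.succ_ne_zero))
    haveI : ∀ i, IsLocalRing (A' i) := fun i =>
      IsLocalRing.of_surjective' (Ideal.Quotient.mk _) Ideal.Quotient.mk_surjective
    let u : ∀ i, A →+* A' i := fun i => Ideal.quotientMap _ (φ i) (iInf_le _ i)
    letI : ∀ i, Algebra A (A' i) := fun i => (u i).toAlgebra
    haveI : ∀ i, IsScalarTower C A (A' i) := fun i => IsScalarTower.of_algebraMap_eq fun _ => rfl
    haveI : ∀ i, IsScalarTower R A (A' i) := fun i => IsScalarTower.of_algebraMap_eq fun _ => rfl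
    let T' : ι → Type u := fun i => A' i ⊗[R] B
    letI : ∀ i, Algebra T (T' i) := fun i => (bcMap R B A (A' i)).toRingHom.toAlgebra
    haveI : ∀ i, IsScalarTower A T (T' i) := fun i =>
      IsScalarTower.of_algebraMap_eq fun a => ((bcMap R B A (A' i)).commutes a).symm
    haveI : ∀ i, IsScalarTower A (A' i) (T' i) := fun i => TensorProduct.isScalarTower_left
    haveI : ∀ i, Algebra.IsPushout A (A' i) T (T' i) := fun i => by
      letI : Algebra T (A' i ⊗[A] T) := Algebra.TensorProduct.rightAlgebra
      refine Algebra.IsPushout.of_equiv (R := A) (R' := A' i) (S := T) (S' := A' i ⊗[A] T)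
        (Algebra.TensorProduct.cancelBaseChange R A (A' i) (A' i) B) ?_
      refine RingHom.ext fun t => ?_
      show Algebra.TensorProduct.cancelBaseChange R A (A' i) (A' i) B ((1 : A' i) ⊗ₜ t) = bcMap R B A (A' i) t
      induction t using TensorProduct.induction_on with
      | zero => simp
      | add a b ha hb => simp only [tmul_add, map_add, ha, hb]
      | tmul a b => simp [bcMap_tmul, Algebra.smul_def]
    refine FlatDesc5.flat_localized_of_family (A := A) (T := T) (M := T) P' A' T' (fun a ha => ?_)
      (fun i Q _ hQ hQm => ?_)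
    · obtain ⟨c, rfl⟩ := Ideal.Quotient.mk_surjective a
      rw [Ideal.Quotient.eq_zero_iff_mem]
      refine (Submodule.mem_iInf _).2 fun i => ?_
      have h0 : Ideal.Quotient.mk (maximalIdeal (V i) ^ (n + 1)) (φ i c) = 0 := ha i
      rw [Ideal.mem_comap]
      exact (Ideal.Quotient.eq_zero_iff_mem (I := maximalIdeal (V i) ^ (n + 1))).1 h0
    · -- base change from the DVR
      haveI : IsScalarTower R (V i) (A' i) := inferInstance
      have hcomp : (bcMap R B (V i) (A' i)).toRingHom.comp (bcMap R B C (V i)).toRingHom =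
          (bcMap R B A (A' i)).toRingHom.comp ψ.toRingHom := by
        refine RingHom.ext fun z => ?_
        induction z using TensorProduct.induction_on with
        | zero => simp
        | add a b ha hb => simp only [map_add, ha, hb]
        | tmul c b => rfl
      let Q₀ := Q.comap (bcMap R B (V i) (A' i)).toRingHom
      have hQ0 : Q₀.comap (bcMap R B C (V i)) = P := by
        show (Q.comap (bcMap R B (V i) (A' i)).toRingHom).comap (bcMap R B C (V i)).toRingHom = P
        rw [Ideal.comap_comap, hcomp, ← Ideal.comap_comap]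
        rw [show Q.comap (bcMap R B A (A' i)).toRingHom = P' from hQ]
        exact hPψ
      have hQ0m : Q₀.comap (algebraMap (V i) (V i ⊗[R] B)) = maximalIdeal (V i) := by
        show (Q.comap (bcMap R B (V i) (A' i)).toRingHom).comap (algebraMap (V i) (V i ⊗[R] B)) = _
        rw [Ideal.comap_comap, show (bcMap R B (V i) (A' i)).toRingHom.comp (algebraMap (V i) (V i ⊗[R] B)) =
          (algebraMap (A' i) (T' i)).comp (algebraMap (V i) (A' i)) from rfl, ← Ideal.comap_comap, hQm]
        haveI : ((maximalIdeal (A' i)).comap (algebraMap (V i) (A' i))).IsMaximal :=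
          Ideal.comap_isMaximal_of_surjective _ Ideal.Quotient.mk_surjective
        exact eq_maximalIdeal inferInstance
      have h1 := h (V i) (hdom i) Q₀ hQ0 hQ0m
      haveI : Module.Flat (V i) (LocalizedModule (Q.comap (bcMap R B (V i) (A' i)).toRingHom).primeCompl
        (V i ⊗[R] B)) := h1
      exact flat_localized_rid Q (flatAt_baseChange R B (V i) (A' i) Q h1)
  -- Krull
  let g := LocalizedModule.mkLinearMap P.primeCompl (C ⊗[R] B)
  let TP := Localization P.primeCompl
  haveI : IsLocalRing TP := Localization.AtPrime.isLocalRing P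
  haveI : IsNoetherianRing TP := IsLocalization.isNoetherianRing P.primeCompl TP inferInstance
  haveI : Module.Finite TP (LocalizedModule P.primeCompl (C ⊗[R] B)) :=
    Module.Finite.of_isLocalizedModule P.primeCompl g
  refine FlatH4.flat_of_forall_flat_quotient_pow (S := TP) (maximalIdeal C) ?_ fun j _ =>
    FlatH4.flat_mod_of_injective _ fun hN hN' f hf => ?_
  · rw [IsLocalRing.jacobson_eq_maximalIdeal ⊥ bot_ne_top, IsScalarTower.algebraMap_eq C (C ⊗[R] B) TP,
      ← Ideal.map_map]
    refine (Ideal.map_mono (Ideal.map_le_iff_le_comap.2 hP.ge)).trans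
      (Ideal.map_le_iff_le_comap.2 fun x hx => ?_)
    exact (IsLocalization.AtPrime.to_map_mem_maximal_iff TP P x).2 hx
  · obtain ⟨n, hn⟩ := HLV27.exists_le_pow K hKanti hK0 j
    exact FlatH4.lTensor_localized_injective P.primeCompl g f fun x hx =>
      hker' n (fun y c => @hN y ⟨c.1, hn c.2⟩) (fun y c => @hN' y ⟨c.1, hn c.2⟩) f hf x hx

/-- The valuative criterion at a prime over a complete local ring whose kernels are killed by
non-zero-divisors of a reduced Noetherian ring. -/
theorem flatAt_of_dvr_of_reducedBase {A C : Type u} [CommRing A] [IsNoetherianRing A] [IsReduced A]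
    [CommRing C] [Algebra R A] [Algebra R C] [Algebra A C] [IsScalarTower R A C] [Module.Flat A C]
    [IsLocalRing C] [IsNoetherianRing C] [IsAdicComplete (maximalIdeal C) C]
    (P : Ideal (C ⊗[R] B)) [P.IsPrime] (hP : P.comap (algebraMap C (C ⊗[R] B)) = maximalIdeal C)
    (h : ∀ (V : Type u) [CommRing V] [IsDomain V] [IsDiscreteValuationRing V] [Algebra R V] [Algebra C V]
      [IsScalarTower R C V], (maximalIdeal V).comap (algebraMap C V) = maximalIdeal C →
      ∀ (Q : Ideal (V ⊗[R] B)) [Q.IsPrime], Q.comap (bcMap R B C V) = P →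
        Q.comap (algebraMap V (V ⊗[R] B)) = maximalIdeal V →
        Module.Flat V (LocalizedModule Q.primeCompl (V ⊗[R] B))) :
    Module.Flat C (LocalizedModule P.primeCompl (C ⊗[R] B)) := by
  classical
  haveI : Algebra.FiniteType C (C ⊗[R] B) := Algebra.FiniteType.baseChange C
  haveI : IsNoetherianRing (C ⊗[R] B) := Algebra.FiniteType.isNoetherianRing C _
  let a : Ideal C := nilradical C
  let D := C ⧸ a
  haveI : IsReduced D := (Ideal.isRadical_iff_quotient_reduced a).1 (Ideal.radical_isRadical ⊥)
  have ham : a ≤ maximalIdeal C := nilradical_le_prime (maximalIdeal C)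
  haveI : Nontrivial D := Ideal.Quotient.nontrivial_iff.2 (ne_top_of_le_ne_top (maximalIdeal.isMaximal C).ne_top ham)
  haveI : IsLocalRing D := IsLocalRing.of_surjective' (Ideal.Quotient.mk _) Ideal.Quotient.mk_surjective
  have hmD : (maximalIdeal D).comap (algebraMap C D) = maximalIdeal C := by
    haveI : ((maximalIdeal D).comap (algebraMap C D)).IsMaximal :=
      Ideal.comap_isMaximal_of_surjective _ Ideal.Quotient.mk_surjective
    exact eq_maximalIdeal inferInstance
  haveI : IsAdicComplete (maximalIdeal D) D := by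
    haveI : IsAdicComplete (maximalIdeal C) D := Compl.isAdicComplete_of_finite (maximalIdeal C) D
    have h1 : (maximalIdeal C).map (algebraMap C D) = maximalIdeal D := by
      rw [← hmD]
      exact Ideal.map_comap_of_surjective (algebraMap C D) Ideal.Quotient.mk_surjective _
    rw [← h1]
    exact (IsAdicComplete.map_algebraMap_iff (maximalIdeal C) D).2 inferInstance
  let ψ := bcMap R B C D
  have hsurj : Function.Surjective ψ := bcMap_surjective R B C D Ideal.Quotient.mk_surjective
  have hkerψ : RingHom.ker ψ.toRingHom ≤ P := by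
    have hk : RingHom.ker ψ.toRingHom = a.map (algebraMap C (C ⊗[R] B)) := by
      have := Algebra.TensorProduct.rTensor_ker (A := C) (B := D) (C := B) (R := R)
        ((Ideal.Quotient.mkₐ R a)) Ideal.Quotient.mk_surjective
      rw [show RingHom.ker (Ideal.Quotient.mkₐ R a) = a from Ideal.Quotient.mkₐ_ker R a] at this
      exact this
    rw [hk, Ideal.map_le_iff_le_comap, hP]
    exact ham
  let P' := P.map ψ.toRingHom
  haveI : P'.IsPrime := Ideal.map_isPrime_of_surjective hsurj hkerψ
  have hPψ : P'.comap ψ = P := by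
    show (P.map ψ.toRingHom).comap ψ.toRingHom = P
    exact (Ideal.comap_map_of_surjective' ψ.toRingHom hsurj P).trans (sup_eq_left.2 hkerψ)
  have hflatD : Module.Flat D (LocalizedModule P'.primeCompl (D ⊗[R] B)) := by
    refine flatAt_of_dvr_of_complete P' ?_ ?_
    · have h1 : (P'.comap (algebraMap D (D ⊗[R] B))).comap (algebraMap C D) = maximalIdeal C := by
        rw [← hP, ← hPψ, Ideal.comap_comap]
        show _ = (P'.comap ψ.toRingHom).comap _
        rw [Ideal.comap_comap]
        rfl
      rw [← Ideal.map_comap_of_surjective (algebraMap C D) Ideal.Quotient.mk_surjective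
        (P'.comap (algebraMap D (D ⊗[R] B))), h1, ← hmD,
        Ideal.map_comap_of_surjective (algebraMap C D) Ideal.Quotient.mk_surjective]
    · intro V _ _ _ _ _ _ hV Q _ hQ hQm
      letI : Algebra C V := ((algebraMap D V).comp (algebraMap C D)).toAlgebra
      haveI : IsScalarTower R C V := IsScalarTower.of_algebraMap_eq fun r => by
        show algebraMap R V r = algebraMap D V (algebraMap C D (algebraMap R C r))
        rw [← IsScalarTower.algebraMap_apply R C D, ← IsScalarTower.algebraMap_apply R D V]
      refine h V ?_ Q ?_ hQm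
      · show (maximalIdeal V).comap ((algebraMap D V).comp (algebraMap C D)) = _
        rw [← Ideal.comap_comap, hV, hmD]
      · rw [← hPψ, ← hQ]
        show Q.comap (bcMap R B C V).toRingHom = (Q.comap (bcMap R B D V).toRingHom).comap ψ.toRingHom
        rw [Ideal.comap_comap]
        congr 1
        refine RingHom.ext fun z => ?_
        induction z using TensorProduct.induction_on with
        | zero => simp
        | add a b ha hb => simp only [map_add, ha, hb]
        | tmul c b => rfl
  have h2 := fun {N N' : Type u} [AddCommGroup N] [Module C N] [AddCommGroup N'] [Module C N']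
      (hN : Module.IsTorsionBySet C N (a : Set C)) (hN' : Module.IsTorsionBySet C N' (a : Set C))
      (f : N →ₗ[C] N') (hf : Function.Injective f) =>
    exists_smul_eq_zero_of_torsion (R := R) (B := B) a P' P hPψ hflatD hN hN' f hf
  refine FlatH4.flat_localized_of_kernels a P (by rw [Ideal.map_le_iff_le_comap, hP]; exact ham) ?_
    (fun hN hN' f hf x hx => h2 hN hN' f hf x hx)
  -- the regular multiplicative set
  let S : Submonoid C := (nonZeroDivisors A).map (algebraMap A C)
  have hreg : ∀ s ∈ S, ∀ c : C, s * c = 0 → c = 0 := by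
    rintro _ ⟨s, hs, rfl⟩ c hc
    have hinj : Function.Injective ((LinearMap.mul A A s).rTensor C) :=
      Module.Flat.rTensor_preserves_injective_linearMap (M := C) _ fun x y hxy =>
        (mul_cancel_left_mem_nonZeroDivisors hs).1 hxy
    have h1 : (LinearMap.mul A A s).rTensor C ((1 : A) ⊗ₜ[A] c) = 0 := by
      rw [LinearMap.rTensor_tmul, LinearMap.mul_apply', mul_one,
        ← mul_one s, ← smul_eq_mul, TensorProduct.smul_tmul, Algebra.smul_def, hc, tmul_zero]
    have h2 := congrArg (TensorProduct.lid A C) (hinj (h1.trans (map_zero _).symm))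
    simpa using h2
  obtain ⟨k, hk⟩ := IsNoetherianRing.isNilpotent_nilradical C
  let sat : ℕ → Ideal C := fun j =>
    { carrier := {c | ∃ s ∈ S, s * c ∈ a ^ j}
      add_mem' := by
        rintro x y ⟨s, hs, hx⟩ ⟨t, ht, hy⟩
        refine ⟨s * t, S.mul_mem hs ht, ?_⟩
        rw [show s * t * (x + y) = t * (s * x) + s * (t * y) by ring]
        exact add_mem (Ideal.mul_mem_left _ _ hx) (Ideal.mul_mem_left _ _ hy)
      zero_mem' := ⟨1, S.one_mem, by simp⟩
      smul_mem' := by
        rintro r x ⟨s, hs, hx⟩
        exact ⟨s, hs, by rw [smul_eq_mul, mul_left_comm]; exact Ideal.mul_mem_left _ _ hx⟩ }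
  have hsat : ∀ d j (x : (C ⊗[R] B) ⊗[C] sat j), j + d = k → 1 ≤ j →
      (sat j).subtype.lTensor (C ⊗[R] B) x = 0 → ∃ t ∈ P.primeCompl, t • x = 0 := by
    intro d
    induction d with
    | zero =>
      intro j x hj _ _
      haveI : Subsingleton (sat j) := ⟨fun u v => Subtype.ext (by
        have hz : ∀ w : sat j, (w : C) = 0 := fun w => by
          obtain ⟨s, hs, hw⟩ := w.2
          rw [show a ^ j = ⊥ by rw [show j = k by omega]; exact hk, Ideal.mem_bot] at hw
          exact hreg s hs _ hw
        rw [hz u, hz v])⟩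
      haveI : Subsingleton ((C ⊗[R] B) ⊗[C] sat j) := inferInstance
      exact ⟨1, one_mem _, Subsingleton.elim _ _⟩
    | succ d ih =>
      intro j x hj hj1 hx
      have hle : sat (j + 1) ≤ sat j := fun c ⟨s, hs, hc⟩ =>
        ⟨s, hs, Ideal.pow_le_pow_right (Nat.le_succ j) hc⟩
      let incl : sat (j + 1) →ₗ[C] sat j := Submodule.inclusion hle
      let Qj := sat j ⧸ LinearMap.range incl
      let π : sat j →ₗ[C] Qj := Submodule.mkQ _
      have hmemr : ∀ w : sat j, w ∈ LinearMap.range incl ↔ (w : C) ∈ sat (j + 1) := fun w =>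
        ⟨fun ⟨v, hv⟩ => hv ▸ v.2, fun hw => ⟨⟨w, hw⟩, Subtype.ext rfl⟩⟩
      have htor : Module.IsTorsionBySet C Qj (a : Set C) := by
        intro y c
        obtain ⟨y, rfl⟩ := Submodule.mkQ_surjective _ y
        rw [← map_smul, Submodule.mkQ_apply, Submodule.Quotient.mk_eq_zero, hmemr]
        obtain ⟨s, hs, hy⟩ := y.2
        refine ⟨s, hs, ?_⟩
        show s * ((c : C) * (y : C)) ∈ a ^ (j + 1)
        rw [mul_left_comm, pow_succ']
        exact Ideal.mul_mem_mul c.2 hy
      obtain ⟨s, hs, hsx⟩ := exists_smul_eq_zero_of_reduced (A := A) (sat j).subtype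
        (sat j).injective_subtype x hx
      let μ : Qj →ₗ[C] Qj := LinearMap.lsmul C Qj (algebraMap A C s)
      have hμ : Function.Injective μ := by
        rw [injective_iff_map_eq_zero]
        intro y hy
        obtain ⟨y, rfl⟩ := Submodule.mkQ_surjective _ y
        rw [LinearMap.lsmul_apply, ← map_smul, Submodule.mkQ_apply, Submodule.Quotient.mk_eq_zero, hmemr] at hy
        rw [Submodule.mkQ_apply, Submodule.Quotient.mk_eq_zero, hmemr]
        obtain ⟨t, ht, hy⟩ := hy
        refine ⟨t * algebraMap A C s, S.mul_mem ht ⟨s, hs, rfl⟩, ?_⟩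
        rw [mul_assoc]
        exact hy
      obtain ⟨t, ht, htx⟩ := h2 htor htor μ hμ (π.lTensor (C ⊗[R] B) x) (by
        rw [← LinearMap.lTensor_comp_apply,
          show μ ∘ₗ π = π ∘ₗ LinearMap.lsmul C (sat j) (algebraMap A C s) from
            LinearMap.ext fun _ => rfl, LinearMap.lTensor_comp_apply]
        rw [show (LinearMap.lsmul C (sat j) (algebraMap A C s)).lTensor (C ⊗[R] B) x = algebraMap A C s • x from ?_,
          hsx, map_zero]
        clear hx hsx
        induction x using TensorProduct.induction_on with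
        | zero => simp
        | add u v hu hv => simp only [map_add, smul_add, hu, hv]
        | tmul u v => simp)
      have hex : Function.Exact incl π := LinearMap.exact_map_mkQ_range incl
      have htx' : π.lTensor (C ⊗[R] B) (t • x) = 0 := by
        rw [← htx]
        clear hx hsx htx
        induction x using TensorProduct.induction_on with
        | zero => simp
        | add u v hu hv => simp only [smul_add, map_add, hu, hv]
        | tmul u v => simp [TensorProduct.smul_tmul']
      obtain ⟨z, hz⟩ := (lTensor_exact (C ⊗[R] B) hex (Submodule.mkQ_surjective _) _).1 htx'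
      obtain ⟨t', ht', htz⟩ := ih (j + 1) z (by omega) (by omega) (by
        rw [show (sat (j + 1)).subtype = (sat j).subtype ∘ₗ incl from LinearMap.ext fun _ => rfl,
          LinearMap.lTensor_comp_apply, hz]
        have hlin : ∀ (t : C ⊗[R] B) (w : (C ⊗[R] B) ⊗[C] sat j),
            (sat j).subtype.lTensor _ (t • w) = t • (sat j).subtype.lTensor _ w := fun t w => by
          induction w using TensorProduct.induction_on with
          | zero => simp
          | add u v hu hv => simp only [smul_add, map_add, hu, hv]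
          | tmul u v => simp [TensorProduct.smul_tmul']
        rw [hlin, hx, smul_zero])
      refine ⟨t' * t, mul_mem ht' ht, ?_⟩
      rw [mul_smul, ← hz]
      have hlin : ∀ (w : (C ⊗[R] B) ⊗[C] sat (j + 1)),
          incl.lTensor _ (t' • w) = t' • incl.lTensor _ w := fun w => by
        induction w using TensorProduct.induction_on with
        | zero => simp
        | add u v hu hv => simp only [smul_add, map_add, hu, hv]
        | tmul u v => simp [TensorProduct.smul_tmul']
      rw [← hlin, htz, map_zero]
  intro x hx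
  have ha1 : sat 1 = a := by
    refine le_antisymm (fun c ⟨s, hs, hc⟩ => ?_) fun c hc => ⟨1, S.one_mem, by simpa using hc⟩
    rw [pow_one] at hc
    obtain ⟨n, hn⟩ := mem_nilradical.1 hc
    refine mem_nilradical.2 ⟨n, ?_⟩
    rw [mul_pow] at hn
    exact hreg _ (S.pow_mem hs n) _ hn
  rcases Nat.eq_zero_or_pos k with rfl | hkpos
  · have : (1 : C) = 0 := by simpa [Ideal.one_eq_top] using (show a ^ 0 = ⊥ from hk)
    exact absurd this one_ne_zero
  exact (show ∀ J : Ideal C, sat 1 = J → ∀ x : (C ⊗[R] B) ⊗[C] J,
      J.subtype.lTensor (C ⊗[R] B) x = 0 → ∃ t ∈ P.primeCompl, t • x = 0 from fun J hJ x hx => by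
    subst hJ
    exact hsat (k - 1) 1 x (by omega) le_rfl hx) a ha1 x hx

end Groth.Agent.FlatDvr5
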