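import Groth.Agent.Lib.FlatDvr5.Complete
import Groth.Agent.Lib.EtQuotH28.PrimeTensor
import Groth.Agent.Lib.Compl.Dim
import Groth.Agent.Lib.WEtaleH7.Misc
import Groth.Agent.Lib.FlatH4.FlatLocusScheme
import Mathlib.RingTheory.RingHom.Flat

/-!
# The valuative criterion of flatness
-/

set_option autoImplicit false
set_option backward.isDefEq.respectTransparency.types false
set_option linter.style.haveILetI false
set_option maxHeartbeats 800000

universe u

open TensorProduct IsLocalRing

namespace Groth.Agent.FlatDvr5

/-- Flatness at a prime descends along a flat base change. -/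
theorem flat_of_flatAt_baseChange {R B C : Type u} [CommRing R] [CommRing B] [CommRing C] [Algebra R B]
    [Algebra R C] [Module.Flat R C] (P : Ideal (C ⊗[R] B)) [P.IsPrime] (q : Ideal B) [q.IsPrime]
    (hq : P.comap (Algebra.TensorProduct.includeRight : B →ₐ[R] C ⊗[R] B).toRingHom = q)
    (h : Module.Flat C (LocalizedModule P.primeCompl (C ⊗[R] B))) :
    Module.Flat R (LocalizedModule q.primeCompl B) := by
  let ι := (Algebra.TensorProduct.includeRight : B →ₐ[R] C ⊗[R] B).toRingHom
  have hι : ι.Flat := by
    letI : Algebra B (C ⊗[R] B) := Algebra.TensorProduct.rightAlgebra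
    show Module.Flat B (C ⊗[R] B)
    haveI : Module.Flat B (B ⊗[R] C) := inferInstance
    let e : B ⊗[R] C ≃ₗ[B] C ⊗[R] B :=
      { (TensorProduct.comm R B C).toAddEquiv with
        map_smul' := fun b x => by
          show TensorProduct.comm R B C (b • x) = ι b * TensorProduct.comm R B C x
          induction x using TensorProduct.induction_on with
          | zero => simp
          | add u v hu hv => simp only [smul_add, map_add, hu, hv, mul_add]
          | tmul u v => simp [ι, TensorProduct.smul_tmul', Algebra.TensorProduct.tmul_mul_tmul] }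
    exact Module.Flat.of_linearEquiv e.symm
  let ψ := Localization.localRingHom q P ι hq.symm
  haveI : IsLocalHom ψ := Localization.isLocalHom_localRingHom q P ι hq.symm
  have hψ : ψ.FaithfullyFlat := by
    letI := ψ.toAlgebra
    haveI : Module.Flat (Localization.AtPrime q) (Localization.AtPrime P) :=
      RingHom.Flat.localRingHom hι P q hq.symm
    exact Module.FaithfullyFlat.of_flat_of_isLocalHom
  haveI h1 : Module.Flat C (Localization.AtPrime P) := (FlatH4.flat_localization_iff P).1 h
  haveI : Module.Flat R (Localization.AtPrime P) := Module.Flat.trans R C _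
  refine (FlatH4.flat_localization_iff q).2 ?_
  rw [← RingHom.flat_algebraMap_iff]
  refine WEtaleH7.flat_of_comp_faithfullyFlat _ ψ hψ ?_
  have e : ψ.comp (algebraMap R (Localization.AtPrime q)) = algebraMap R (Localization.AtPrime P) := by
    refine RingHom.ext fun r => ?_
    rw [RingHom.comp_apply, IsScalarTower.algebraMap_apply R B (Localization.AtPrime q),
      Localization.localRingHom_to_map, IsScalarTower.algebraMap_apply R (C ⊗[R] B) (Localization.AtPrime P)]
    exact congrArg _ ((Algebra.TensorProduct.includeRight : B →ₐ[R] C ⊗[R] B).commutes r)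
  rw [e, RingHom.flat_algebraMap_iff]
  infer_instance

/-- The valuative criterion of flatness at a prime. -/
theorem flat_atPrime_of_dvr {R B : Type u} [CommRing R] [CommRing B] [Algebra R B] [Algebra.FiniteType R B]
    (p : Ideal R) [p.IsPrime] [IsNoetherianRing (Localization.AtPrime p)] [IsReduced (Localization.AtPrime p)]
    (q : Ideal B) [q.IsPrime] (hqp : q.comap (algebraMap R B) = p)
    (h : ∀ (V : Type u) [CommRing V] [IsDomain V] [IsDiscreteValuationRing V] [Algebra R V],
      (maximalIdeal V).comap (algebraMap R V) = p →
      ∀ (Q : Ideal (V ⊗[R] B)) [Q.IsPrime],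
        Q.comap (Algebra.TensorProduct.includeRight : B →ₐ[R] V ⊗[R] B).toRingHom = q →
        Q.comap (algebraMap V (V ⊗[R] B)) = maximalIdeal V →
        Module.Flat V (LocalizedModule Q.primeCompl (V ⊗[R] B))) :
    Module.Flat R (LocalizedModule q.primeCompl B) := by
  let A := Localization.AtPrime p
  let C := AdicCompletion (maximalIdeal A) A
  haveI : IsNoetherianRing C := Compl.isNoetherianRing_maximalIdeal_adicCompletion A
  haveI : IsScalarTower R A C := IsScalarTower.of_algebraMap_eq fun r => rfl
  haveI : Module.Flat R A := IsLocalization.flat A p.primeCompl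
  haveI : Module.Flat R C := Module.Flat.trans R A C
  have hmC : (maximalIdeal C).comap (algebraMap R C) = p := by
    rw [IsScalarTower.algebraMap_eq R A C, ← Ideal.comap_comap, IsLocalRing.maximalIdeal_comap]
    exact IsLocalization.AtPrime.comap_maximalIdeal A p
  obtain ⟨P, hP, hPC, hPq⟩ := EtQuotH28.exists_prime_tensor (R := R) (S := C) (T := B)
    (maximalIdeal C) q (hmC.trans hqp.symm)
  haveI := hP
  refine flat_of_flatAt_baseChange P q hPq (flatAt_of_dvr_of_reducedBase (A := A) P hPC ?_)
  intro V _ _ _ _ _ _ hV Q _ hQ hQm
  refine h V ?_ Q ?_ hQm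
  · rw [IsScalarTower.algebraMap_eq R C V, ← Ideal.comap_comap, hV, hmC]
  · rw [← hPq, ← hQ]
    show Q.comap _ = (Q.comap (bcMap R B C V).toRingHom).comap _
    rw [Ideal.comap_comap]
    congr 1
    refine RingHom.ext fun b => ?_
    simp [bcMap_tmul]

end Groth.Agent.FlatDvr5
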